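import Groth.Agent.WSNBaseChange.Equalizer
import Groth.Agent.EtaleLib.Reduced

/-! The weak subintegral closure commutes with localisation and etale base change. -/

set_option autoImplicit false
set_option linter.style.haveILetI false
set_option linter.unusedSectionVars false
set_option backward.isDefEq.respectTransparency false

universe u

open AlgebraicGeometry TensorProduct
open Groth.Agent

namespace Groth.Agent.WSNBaseChange

variable {A B A' : Type u} [CommRing A] [CommRing B] [CommRing A'] [Algebra A B] [Algebra A A']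

theorem isReduced_base (Q : Type u) [CommRing Q] [Algebra A Q] [IsReduced Q]
    (hA' : (∃ M : Submonoid A, IsLocalization M A') ∨ Algebra.Etale A A') : IsReduced (A' ⊗[A] Q) := by
  rcases hA' with ⟨M, hM⟩ | h
  · haveI := IsLocalization.tensor (S := Q) A' M
    haveI : IsReduced (Q ⊗[A] A') :=
      isReduced_localizationPreserves (Algebra.algebraMapSubmonoid Q M) _ inferInstance
    exact isReduced_of_injective (Algebra.TensorProduct.comm A A' Q) (Algebra.TensorProduct.comm A A' Q).injective
  · haveI := EtaleLib.isReduced_of_etale (A := Q) (Q ⊗[A] A')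
    exact isReduced_of_injective (Algebra.TensorProduct.comm A A' Q) (Algebra.TensorProduct.comm A A' Q).injective

theorem flat_of (hA' : (∃ M : Submonoid A, IsLocalization M A') ∨ Algebra.Etale A A') : Module.Flat A A' := by
  rcases hA' with ⟨M, hM⟩ | h
  · exact IsLocalization.flat A' M
  · infer_instance

theorem toIntegralClosure_bijective (hA' : (∃ M : Submonoid A, IsLocalization M A') ∨ Algebra.Etale A A') :
    Function.Bijective (TensorProduct.toIntegralClosure A A' B) := by
  rcases hA' with ⟨M, hM⟩ | h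
  · exact TensorProduct.toIntegralClosure_bijective_of_isLocalization M
  · exact TensorProduct.toIntegralClosure_bijective_of_smooth

variable {W₀ : Type u} [CommRing W₀] [Algebra A W₀]

/-- The equalizer commutes with a reduced-preserving flat base change. -/
theorem mem_eqz_baseChange [Module.Flat A A'] (hred : IsReduced (A' ⊗[A] ((W₀ ⊗[A] W₀) ⧸ nilradical (W₀ ⊗[A] W₀))))
    {x : A' ⊗[A] W₀} :
    x ∈ eqz A' (A' ⊗[A] W₀) ↔ x ∈ Set.range (LinearMap.lTensor A' (eqz A W₀).val.toLinearMap) := by
  let W := A' ⊗[A] W₀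
  let δ₀ : W₀ →ₗ[A] W₀ ⊗[A] W₀ :=
    (Algebra.TensorProduct.includeLeft : W₀ →ₐ[A] W₀ ⊗[A] W₀).toLinearMap -
      (Algebra.TensorProduct.includeRight : W₀ →ₐ[A] W₀ ⊗[A] W₀).toLinearMap
  let δ : W → W ⊗[A'] W := fun w => w ⊗ₜ[A'] (1 : W) - (1 : W) ⊗ₜ[A'] w
  let iW : W₀ →ₐ[A] W := Algebra.TensorProduct.includeRight
  let G : A' ⊗[A] (W₀ ⊗[A] W₀) →ₐ[A'] W ⊗[A'] W :=
    Algebra.TensorProduct.lift (Algebra.ofId A' _)
      (Algebra.TensorProduct.lift
        (((Algebra.TensorProduct.includeLeft : W →ₐ[A'] W ⊗[A'] W).restrictScalars A).comp iW)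
        (((Algebra.TensorProduct.includeRight : W →ₐ[A'] W ⊗[A'] W).restrictScalars A).comp iW)
        fun _ _ => Commute.all _ _) fun _ _ => Commute.all _ _
  let H : W ⊗[A'] W →ₐ[A'] A' ⊗[A] (W₀ ⊗[A] W₀) :=
    Algebra.TensorProduct.lift (Algebra.TensorProduct.map (AlgHom.id A' A') Algebra.TensorProduct.includeLeft)
      (Algebra.TensorProduct.map (AlgHom.id A' A') Algebra.TensorProduct.includeRight) fun _ _ => Commute.all _ _
  have hH : ∀ w, H (δ w) = δ₀.lTensor A' w := by
    intro w
    induction w using TensorProduct.induction_on with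
    | zero => simp [δ]
    | tmul a v =>
      simp only [δ, δ₀, H, map_sub, Algebra.TensorProduct.lift_tmul, map_one, mul_one, one_mul, LinearMap.lTensor_tmul,
        LinearMap.sub_apply, TensorProduct.tmul_sub]
      erw [Algebra.TensorProduct.map_tmul, Algebra.TensorProduct.map_tmul]
      rfl
    | add v v' hv hv' =>
      have : δ (v + v') = δ v + δ v' := by simp [δ, TensorProduct.add_tmul, TensorProduct.tmul_add]; abel
      rw [this, map_add, map_add, hv, hv']
  have hG : ∀ w, G (δ₀.lTensor A' w) = δ w := by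
    intro w
    induction w using TensorProduct.induction_on with
    | zero => simp [δ]
    | tmul a v =>
      have h1 : (a ⊗ₜ[A] v) ⊗ₜ[A'] (1 : W) = algebraMap A' (W ⊗[A'] W) a * ((1 : A') ⊗ₜ[A] v) ⊗ₜ[A'] (1 : W) := by
        rw [Algebra.TensorProduct.algebraMap_apply]
        simp [W, Algebra.TensorProduct.algebraMap_apply]
      have h2 : (1 : W) ⊗ₜ[A'] (a ⊗ₜ[A] v) = algebraMap A' (W ⊗[A'] W) a * (1 : W) ⊗ₜ[A'] ((1 : A') ⊗ₜ[A] v) := by
        rw [Algebra.TensorProduct.algebraMap_apply']
        simp [W, Algebra.TensorProduct.algebraMap_apply]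
      show _ = (a ⊗ₜ[A] v) ⊗ₜ[A'] (1 : W) - (1 : W) ⊗ₜ[A'] (a ⊗ₜ[A] v)
      rw [h1, h2, LinearMap.lTensor_tmul]
      simp only [G, Algebra.TensorProduct.lift_tmul, δ₀, LinearMap.sub_apply, map_sub, Algebra.ofId_apply, mul_sub]
      simp [iW]
      rfl
    | add v v' hv hv' =>
      have : δ (v + v') = δ v + δ v' := by simp [δ, TensorProduct.add_tmul, TensorProduct.tmul_add]; abel
      rw [this, map_add, map_add, hv, hv']
  rw [mem_eqz]
  constructor
  · intro hn
    let qm := Ideal.Quotient.mkₐ A (nilradical (W₀ ⊗[A] W₀))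
    have h0 := ((hn.map H).map (Algebra.TensorProduct.map (AlgHom.id A A') qm)).eq_zero
    rw [show (x ⊗ₜ[A'] (1 : W) - (1 : W) ⊗ₜ[A'] x) = δ x from rfl, hH] at h0
    have h1 : (qm.toLinearMap ∘ₗ δ₀).lTensor A' x = 0 := by
      rw [LinearMap.lTensor_comp_apply]; exact h0
    have hex : Function.Exact (eqz A W₀).val.toLinearMap (qm.toLinearMap ∘ₗ δ₀) := by
      intro v
      constructor
      · intro hv
        refine ⟨⟨v, ?_⟩, rfl⟩
        have h2 : qm (v ⊗ₜ[A] 1 - 1 ⊗ₜ[A] v) = 0 := hv
        rw [mem_eqz, ← mem_nilradical, ← Ideal.Quotient.eq_zero_iff_mem]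
        exact h2
      · rintro ⟨⟨u, hu⟩, rfl⟩
        exact Ideal.Quotient.eq_zero_iff_mem.mpr (mem_nilradical.mpr (mem_eqz.mp hu))
    exact (Module.Flat.lTensor_exact A' hex x).mp h1
  · rintro ⟨y, rfl⟩
    rw [show ∀ w : W, w ⊗ₜ[A'] (1 : W) - (1 : W) ⊗ₜ[A'] w = δ w from fun _ => rfl, ← hG]
    refine IsNilpotent.map ?_ G
    rw [← mem_nilradical]
    induction y using TensorProduct.induction_on with
    | zero => simp
    | tmul a e =>
      rw [LinearMap.lTensor_tmul, LinearMap.lTensor_tmul, mem_nilradical,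
        show a ⊗ₜ[A] δ₀ ((eqz A W₀).val.toLinearMap e) =
          algebraMap A' (A' ⊗[A] (W₀ ⊗[A] W₀)) a * (1 : A') ⊗ₜ[A] δ₀ ((eqz A W₀).val.toLinearMap e) by simp]
      exact Commute.isNilpotent_mul_left (Commute.all _ _)
        ((mem_eqz.mp e.2).map (Algebra.TensorProduct.includeRight (R := A) (A := A')))
    | add u v hu hv => rw [map_add, map_add]; exact add_mem hu hv

/-- The weak subintegral closure commutes with localisation and etale base change. -/
theorem eq_range_map (hinj : Function.Injective (algebraMap A B))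
    (hA' : (∃ M : Submonoid A, IsLocalization M A') ∨ Algebra.Etale A A')
    (C : Subalgebra A B) (hC : FlatMor.IsUnivHomeo (Spec.map (CommRingCat.ofHom (algebraMap A C))))
    (hmax : ∀ D : Subalgebra A B, FlatMor.IsUnivHomeo (Spec.map (CommRingCat.ofHom (algebraMap A D))) → D ≤ C)
    (C' : Subalgebra A' (A' ⊗[A] B))
    (hC' : FlatMor.IsUnivHomeo (Spec.map (CommRingCat.ofHom (algebraMap A' C'))))
    (hmax' : ∀ D : Subalgebra A' (A' ⊗[A] B),
      FlatMor.IsUnivHomeo (Spec.map (CommRingCat.ofHom (algebraMap A' D))) → D ≤ C') :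
    (C' : Set (A' ⊗[A] B)) = Set.range (Algebra.TensorProduct.map (AlgHom.id A A') C.val) := by
  haveI := flat_of hA'
  let W₀ := integralClosure A B
  have hinj₀ : Function.Injective (algebraMap A W₀) := fun a b h => hinj (congrArg Subtype.val h)
  have hCeq := eq_map_eqz (W := W₀) hinj₀ W₀.val Subtype.val_injective (Subalgebra.range_val _) C hC hmax
  let J : A' ⊗[A] W₀ →ₐ[A'] A' ⊗[A] B := Algebra.TensorProduct.map (AlgHom.id A' A') W₀.val
  have hJ : Function.Injective J :=
    Module.Flat.lTensor_preserves_injective_linearMap (M := A') W₀.val.toLinearMap Subtype.val_injective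
  have hJr : J.range = integralClosure A' (A' ⊗[A] B) := by
    apply le_antisymm
    · rintro _ ⟨w, rfl⟩
      exact (TensorProduct.toIntegralClosure A A' B w).2
    · intro z hz
      obtain ⟨w, hw⟩ := (toIntegralClosure_bijective hA').2 ⟨z, hz⟩
      exact ⟨w, congrArg Subtype.val hw⟩
  haveI : Algebra.IsIntegral A' (A' ⊗[A] W₀) := inferInstance
  have hinj' : Function.Injective (algebraMap A' (A' ⊗[A] W₀)) := by
    intro a b h
    have h1 := Module.Flat.lTensor_preserves_injective_linearMap (M := A') (Algebra.linearMap A W₀) hinj₀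
    have key : ∀ c : A', algebraMap A' (A' ⊗[A] W₀) c = (Algebra.linearMap A W₀).lTensor A' (c ⊗ₜ[A] 1) := fun c => by
      simp
    rw [key, key] at h
    exact (TensorProduct.rid A A').symm.injective (h1 h)
  rw [eq_map_eqz hinj' J hJ hJr C' hC' hmax', hCeq]
  have hiff : ∀ x, x ∈ eqz A' (A' ⊗[A] W₀) ↔ x ∈ Set.range (LinearMap.lTensor A' (eqz A W₀).val.toLinearMap) :=
    fun x => by
      haveI : IsReduced ((W₀ ⊗[A] W₀) ⧸ nilradical (W₀ ⊗[A] W₀)) :=
        (Ideal.isRadical_iff_quotient_reduced _).mp (Ideal.radical_isRadical _)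
      exact mem_eqz_baseChange (isReduced_base ((W₀ ⊗[A] W₀) ⧸ nilradical (W₀ ⊗[A] W₀)) hA')
  let e := Subalgebra.equivMapOfInjective (eqz A W₀) W₀.val Subtype.val_injective
  have hcomp : ∀ y : A' ⊗[A] (eqz A W₀),
      Algebra.TensorProduct.map (AlgHom.id A A') ((eqz A W₀).map W₀.val).val
        (Algebra.TensorProduct.map (AlgHom.id A A') (e : _ →ₐ[A] _) y) =
      J (LinearMap.lTensor A' (eqz A W₀).val.toLinearMap y) := by
    intro y
    induction y using TensorProduct.induction_on with
    | zero => simp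
    | tmul a v => simp [J, e]
    | add u v hu hv => simp only [map_add, hu, hv]
  ext z
  simp only [SetLike.mem_coe, Subalgebra.mem_map, Set.mem_range]
  constructor
  · rintro ⟨x, hx, rfl⟩
    obtain ⟨y, rfl⟩ := (hiff x).mp hx
    exact ⟨_, hcomp y⟩
  · rintro ⟨t, rfl⟩
    obtain ⟨y, rfl⟩ := (Algebra.TensorProduct.congr (AlgEquiv.refl : A' ≃ₐ[A] A') e).surjective t
    exact ⟨_, (hiff _).mpr ⟨y, rfl⟩, (hcomp y).symm⟩

end Groth.Agent.WSNBaseChange
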