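import Groth.Agent.AWNLib.Basic
import Mathlib

/-! The weak subintegral closure as an equalizer. -/

set_option autoImplicit false
set_option linter.style.haveILetI false
set_option linter.unusedSectionVars false
set_option backward.isDefEq.respectTransparency false

universe u

open AlgebraicGeometry TensorProduct
open Groth.Agent

namespace Groth.Agent.WSNBaseChange

variable {A B W : Type u} [CommRing A] [CommRing B] [Algebra A B] [CommRing W] [Algebra A W]

variable (A W) in
/-- The difference of the two maps to the reduced self-product. -/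
noncomputable def q : W ⊗[A] W →ₐ[A] (W ⊗[A] W) ⧸ nilradical (W ⊗[A] W) := Ideal.Quotient.mkₐ A _

variable (A W) in
/-- The elements with equal images in the reduced self-product. -/
noncomputable def eqz : Subalgebra A W :=
  AlgHom.equalizer ((q A W).comp Algebra.TensorProduct.includeLeft) ((q A W).comp Algebra.TensorProduct.includeRight)

theorem mem_eqz {w : W} : w ∈ eqz A W ↔ IsNilpotent (w ⊗ₜ[A] (1 : W) - (1 : W) ⊗ₜ[A] w) := by
  rw [← mem_nilradical]
  show q A W (w ⊗ₜ[A] 1) = q A W (1 ⊗ₜ[A] w) ↔ _
  rw [q, Ideal.Quotient.mkₐ_eq_mk, Ideal.Quotient.eq]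

/-- A universally homeomorphic subalgebra lies in the equalizer. -/
theorem le_map_eqz (j : W →ₐ[A] B) (hj : Function.Injective j) (D : Subalgebra A B) (hDr : D ≤ j.range)
    (hD : FlatMor.IsUnivHomeo (Spec.map (CommRingCat.ofHom (algebraMap A D)))) : D ≤ (eqz A W).map j := by
  intro d hd
  obtain ⟨w, hw⟩ := (AlgHom.mem_range j).mp (hDr hd)
  refine Subalgebra.mem_map.mpr ⟨w, mem_eqz.mpr (nilpotent_iff_mem_prime.mpr fun P hP => ?_), hw⟩
  haveI := hP
  -- the pullback of `D` inside `W`
  let i : D →ₐ[A] W := (AlgEquiv.ofInjective j hj).symm.toAlgHom.comp (Subalgebra.inclusion hDr)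
  have hi : i ⟨d, hd⟩ = w := by
    show (AlgEquiv.ofInjective j hj).symm _ = w
    rw [AlgEquiv.symm_apply_eq]
    exact Subtype.ext hw.symm
  let K := FractionRing ((W ⊗[A] W) ⧸ P)
  let f : W ⊗[A] W →ₐ[A] K := (IsScalarTower.toAlgHom A _ K).comp (Ideal.Quotient.mkₐ A P)
  let g₁ := (f.comp Algebra.TensorProduct.includeLeft).comp i
  let g₂ := (f.comp Algebra.TensorProduct.includeRight).comp i
  have h : (g₁ : D →+* K) = (g₂ : D →+* K) :=
    AWNLib.hom_ext hD _ _ (RingHom.ext fun a => (g₁.commutes a).trans (g₂.commutes a).symm)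
  have h' := RingHom.congr_fun h ⟨d, hd⟩
  rw [← Ideal.Quotient.eq_zero_iff_mem]
  refine IsFractionRing.injective _ K ?_
  rw [map_zero]
  show f (w ⊗ₜ[A] 1 - 1 ⊗ₜ[A] w) = 0
  rw [map_sub, sub_eq_zero, ← hi]
  exact h'

/-- The equalizer of an integral extension is universally homeomorphic to the base. -/
theorem isUnivHomeo_eqz [Algebra.IsIntegral A W] (hinj : Function.Injective (algebraMap A W)) :
    FlatMor.IsUnivHomeo (Spec.map (CommRingCat.ofHom (algebraMap A (eqz A W)))) := by
  have hint : Algebra.IsIntegral A (eqz A W) := Algebra.IsIntegral.of_injective (eqz A W).val Subtype.val_injective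
  refine AWNLib.isUnivHomeo_of _ hint.isIntegral ?_ ?_
  · intro K _ g g' hgg
    let L := AlgebraicClosure K
    letI : Algebra A L := ((algebraMap K L).comp (g.comp (algebraMap A (eqz A W)))).toAlgebra
    have ext : ∀ g₀ : eqz A W →+* K, g₀.comp (algebraMap A (eqz A W)) = g.comp (algebraMap A (eqz A W)) →
        ∃ G : W →ₐ[A] L, ∀ e : eqz A W, G e = algebraMap K L (g₀ e) := by
      intro g₀ hg₀
      let gL : eqz A W →+* L := (algebraMap K L).comp g₀
      haveI : (RingHom.ker gL).IsPrime := RingHom.ker_isPrime gL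
      haveI : Algebra.IsIntegral (eqz A W) W := Algebra.IsIntegral.tower_top A
      obtain ⟨Q, -, hQ, hQc⟩ := Ideal.exists_ideal_over_prime_of_isIntegral (RingHom.ker gL) (⊥ : Ideal W)
        (by
          rw [← RingHom.ker_eq_comap_bot, (RingHom.injective_iff_ker_eq_bot _).mp Subtype.val_injective]
          exact bot_le)
      haveI := hQ
      let R₁ := (eqz A W) ⧸ RingHom.ker gL
      let S₁ := W ⧸ Q
      letI : Algebra R₁ S₁ :=
        (Ideal.quotientMap Q (algebraMap (eqz A W) W) hQc.ge).toAlgebra
      letI : Algebra R₁ L := gL.kerLift.toAlgebra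
      haveI : FaithfulSMul R₁ S₁ := (faithfulSMul_iff_algebraMap_injective R₁ S₁).mpr
        (Ideal.quotientMap_injective' hQc.le)
      haveI : IsDomain R₁ := Ideal.Quotient.isDomain _
      haveI : IsDomain S₁ := Ideal.Quotient.isDomain _
      haveI : Module.IsTorsionFree R₁ S₁ := FaithfulSMul.to_isTorsionFree R₁ S₁
      haveI : FaithfulSMul R₁ L := (faithfulSMul_iff_algebraMap_injective R₁ L).mpr gL.kerLift_injective
      haveI : Algebra.IsIntegral R₁ S₁ := ⟨fun s => by
        obtain ⟨x, rfl⟩ := Ideal.Quotient.mk_surjective s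
        exact (Algebra.IsIntegral.isIntegral (R := eqz A W) x).map_of_comp_eq (Ideal.Quotient.mk (RingHom.ker gL))
          (Ideal.Quotient.mk Q) (RingHom.ext fun _ => rfl)⟩
      haveI : Module.IsTorsionFree R₁ L := FaithfulSMul.to_isTorsionFree R₁ L
      haveI : Nontrivial R₁ := inferInstance
      haveI : Algebra.IsAlgebraic R₁ S₁ := ⟨fun s => IsIntegral.isAlgebraic (Algebra.IsIntegral.isIntegral (R := R₁) s)⟩
      let φ : S₁ →ₐ[R₁] L := IsAlgClosed.lift
      let G₀ : W →+* L := (φ : S₁ →+* L).comp (Ideal.Quotient.mk Q)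
      have hG : ∀ e : eqz A W, G₀ e = algebraMap K L (g₀ e) := fun e =>
        φ.commutes (Ideal.Quotient.mk (RingHom.ker gL) e)
      refine ⟨{ G₀ with commutes' := fun a => ?_ }, hG⟩
      show G₀ (algebraMap A (eqz A W) a : W) = _
      rw [hG, show g₀ (algebraMap A (eqz A W) a) = g (algebraMap A (eqz A W) a) from RingHom.congr_fun hg₀ a]
      rfl
    obtain ⟨G, hG⟩ := ext g rfl
    obtain ⟨G', hG'⟩ := ext g' hgg.symm
    ext e
    refine (algebraMap K L).injective ?_
    rw [← hG, ← hG']
    have hn := mem_eqz.mp e.2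
    have := (hn.map (Algebra.TensorProduct.lift G G' fun _ _ => Commute.all _ _)).eq_zero
    simpa [sub_eq_zero] using this
  · intro x
    haveI : FaithfulSMul A (eqz A W) := (faithfulSMul_iff_algebraMap_injective A _).mpr fun a b h =>
      hinj (congrArg Subtype.val h)
    exact Algebra.IsIntegral.comap_surjective (R := A) (S := eqz A W) x

/-- The largest universally homeomorphic subalgebra is the equalizer of the integral closure. -/
theorem eq_map_eqz [Algebra.IsIntegral A W] (hinj : Function.Injective (algebraMap A W)) (j : W →ₐ[A] B)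
    (hj : Function.Injective j) (hr : j.range = integralClosure A B) (C : Subalgebra A B)
    (hC : FlatMor.IsUnivHomeo (Spec.map (CommRingCat.ofHom (algebraMap A C))))
    (hmax : ∀ D : Subalgebra A B, FlatMor.IsUnivHomeo (Spec.map (CommRingCat.ofHom (algebraMap A D))) → D ≤ C) :
    C = (eqz A W).map j := by
  refine le_antisymm (le_map_eqz j hj C (fun c hc => ?_) hC) (hmax _ ?_)
  · rw [hr]
    haveI : Algebra.IsIntegral A C := ⟨AWNLib.isIntegral hC⟩
    exact (Algebra.IsIntegral.isIntegral (R := A) (⟨c, hc⟩ : C)).map C.val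
  · let e := Subalgebra.equivMapOfInjective (eqz A W) j hj
    have := isUnivHomeo_eqz (W := W) hinj
    have he : algebraMap A ((eqz A W).map j) = (e : eqz A W →+* (eqz A W).map j).comp (algebraMap A (eqz A W)) :=
      RingHom.ext fun a => (e.commutes a).symm
    rw [he]
    refine AWNLib.isUnivHomeo_comp this (AWNLib.isUnivHomeo_of _ (RingHom.isIntegral_of_surjective _ e.surjective)
      (fun K _ g g' h => RingHom.ext fun x => ?_) fun P => ?_)
    · obtain ⟨y, rfl⟩ := e.surjective x
      exact RingHom.congr_fun h y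
    · refine ⟨PrimeSpectrum.comap (e.symm : (eqz A W).map j →+* eqz A W) P, ?_⟩
      rw [← PrimeSpectrum.comap_comp_apply, show (e.symm : (eqz A W).map j →+* eqz A W).comp
        (e : eqz A W →+* (eqz A W).map j) = RingHom.id _ from RingHom.ext fun x => e.symm_apply_apply x]
      exact congrFun PrimeSpectrum.comap_id P

end Groth.Agent.WSNBaseChange
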